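import Cfsg.Agent.Lib.CaminaHerzog.Operators

/-!
# An odd number of products which are 2-elements

In a group with commuting 2-subgroups let `y` be an element of odd order, inverted by an involution,
with centralizer of largest 2-part.  The set `K` of all such elements contains an odd number of `s`
with `y * s` a 2-element.
-/

set_option autoImplicit false
set_option linter.unusedSectionVars false
set_option linter.style.haveILetI false

namespace CfsgLib.GaloisFixed

variable {G : Type*} [Group G] [Finite G]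

/-- An element of odd order inverted by an involution, different from one. -/
def IsInv (s : G) : Prop :=
  Odd (orderOf s) ∧ s ≠ 1 ∧ ∃ t : G, orderOf t = 2 ∧ t * s * t⁻¹ = s⁻¹

/-- The exponent of the 2-part of the centralizer. -/
noncomputable def twoExp (s : G) : ℕ :=
  (Nat.card (Subgroup.centralizer ({s} : Set G))).factorization 2

theorem orderOf_conj (s g : G) : orderOf (g * s * g⁻¹) = orderOf s := by
  simpa [MulAut.conj_apply] using
    orderOf_injective (MulAut.conj g).toMonoidHom (MulAut.conj g).injective s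

theorem IsInv.conj {s : G} (hs : IsInv s) (g : G) : IsInv (g * s * g⁻¹) := by
  obtain ⟨ho, h1, t, ht, hts⟩ := hs
  refine ⟨by rw [orderOf_conj]; exact ho, fun e => h1 ?_, g * t * g⁻¹, by rw [orderOf_conj, ht], ?_⟩
  · simpa [mul_assoc] using congrArg (fun x => g⁻¹ * x * g) e
  · rw [show g * t * g⁻¹ * (g * s * g⁻¹) * (g * t * g⁻¹)⁻¹ = g * (t * s * t⁻¹) * g⁻¹ by group, hts]
    group

theorem card_centralizer_conj (s g : G) :
    Nat.card (Subgroup.centralizer ({g * s * g⁻¹} : Set G)) =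
      Nat.card (Subgroup.centralizer ({s} : Set G)) := by
  refine Nat.card_congr (Equiv.subtypeEquiv (MulAut.conj g).toEquiv fun c => ?_).symm
  simp only [Subgroup.mem_centralizer_singleton_iff, MulEquiv.toEquiv_eq_coe, EquivLike.coe_coe,
    MulAut.conj_apply]
  constructor <;> intro h
  · simp only [mul_assoc, inv_mul_cancel_left]
    simp only [← mul_assoc]
    rw [mul_assoc g c s, h, mul_assoc g s c]
  · simp only [mul_assoc, inv_mul_cancel_left] at h
    simp only [← mul_assoc] at h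
    rw [mul_right_cancel_iff, mul_assoc, mul_assoc, mul_left_cancel_iff] at h
    exact h

theorem twoExp_conj (s g : G) : twoExp (g * s * g⁻¹) = twoExp s := by
  rw [twoExp, twoExp, card_centralizer_conj]

/-- The parity of a finite set with an involution. -/
theorem card_modEq_fixed {α : Type*} [DecidableEq α] (S : Finset α) (f : α → α)
    (hS : ∀ a ∈ S, f a ∈ S) (hf : ∀ a ∈ S, f (f a) = a) :
    ((S.card : ℕ) : ZMod 2) = (({a ∈ S | f a = a} : Finset α).card : ZMod 2) := by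
  rw [← Finset.card_filter_add_card_filter_not (p := fun a => f a = a), Nat.cast_add]
  refine add_eq_left.mpr ?_
  rw [Finset.card_eq_sum_ones, Nat.cast_sum]
  simp only [Nat.cast_one]
  refine Finset.sum_involution (fun a _ => f a) (fun a _ => by decide)
    (fun a ha _ => (Finset.mem_filter.mp ha).2) ?_ (fun a ha => hf a (Finset.mem_filter.mp ha).1)
  intro a ha
  simp only [Finset.mem_filter] at ha ⊢
  exact ⟨hS a ha.1, fun e => ha.2 ((hf a ha.1).symm.trans e ▸ rfl)⟩

variable (hcomm : ∀ H : Subgroup G, IsPGroup 2 H → ∀ a ∈ H, ∀ b ∈ H, a * b = b * a)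

theorem two_pow_iff {x : G} : (∃ j, orderOf x = 2 ^ j) ↔ IsPGroup 2 (Subgroup.zpowers x) := by
  haveI : Fact (Nat.Prime 2) := ⟨Nat.prime_two⟩
  rw [IsPGroup.iff_card, Nat.card_zpowers]

theorem two_pow_of_sq {x : G} (h : x * x = 1) : ∃ j, orderOf x = 2 ^ j := by
  obtain ⟨j, -, hj⟩ := (Nat.dvd_prime_pow Nat.prime_two).mp
    (orderOf_dvd_of_pow_eq_one (show x ^ 2 ^ 1 = 1 by rw [pow_one, sq, h]))
  exact ⟨j, hj⟩

theorem two_pow_conj {x : G} (h : ∃ j, orderOf x = 2 ^ j) (g : G) :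
    ∃ j, orderOf (g * x * g⁻¹) = 2 ^ j := by
  obtain ⟨j, hj⟩ := h
  exact ⟨j, by rw [orderOf_conj, hj]⟩

/-- Adjoining a normalising 2-element keeps a 2-group. -/
theorem sup_zpowers {H : Subgroup G} (hH : IsPGroup 2 H) {b : G} (hb : ∃ j, orderOf b = 2 ^ j)
    (hn : b ∈ Subgroup.normalizer (H : Set G)) : IsPGroup 2 ↥(H ⊔ Subgroup.zpowers b) :=
  hH.to_sup_of_normal_left' (two_pow_iff.mp hb) (Subgroup.zpowers_le.mpr hn)

theorem mem_normalizer_of_commute {H : Subgroup G} {b : G} (h : ∀ q ∈ H, b * q = q * b) :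
    b ∈ Subgroup.normalizer (H : Set G) := by
  have hle : H ≤ Subgroup.centralizer ({b} : Set G) := fun q hq =>
    Subgroup.mem_centralizer_singleton_iff.mpr (h q hq).symm
  refine Subgroup.mem_normalizer_iff.mpr fun q => ⟨fun hq => ?_, fun hq => ?_⟩
  · rw [h q hq, mul_inv_cancel_right]
    exact hq
  · have e := h _ hq
    have : q = b * q * b⁻¹ := (mul_left_cancel (e.trans (inv_mul_cancel_right _ _))).symm
    rw [this]
    exact hq

theorem mem_normalizer_of_conj {H : Subgroup G} {b : G} (hb : b * b = 1)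
    (h : ∀ x ∈ H, b * x * b⁻¹ ∈ H) : b ∈ Subgroup.normalizer (H : Set G) := by
  refine Subgroup.mem_normalizer_iff.mpr fun x => ⟨fun hx => h x hx, fun hx => ?_⟩
  have h' := h _ hx
  rwa [show b * (b * x * b⁻¹) * b⁻¹ = (b * b) * x * (b * b)⁻¹ by group, hb, one_mul, inv_one,
    mul_one] at h'

/-- Splitting off the part of odd order. -/
theorem exists_odd_part (v : G) :
    ∃ e f : ℕ, Odd (orderOf (v ^ e)) ∧ (∃ j, orderOf (v ^ f) = 2 ^ j) ∧ v ^ e * v ^ f = v := by
  obtain ⟨a, b, hb, hab⟩ :=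
    Nat.exists_eq_two_pow_mul_odd (orderOf_pos v).ne'
  obtain ⟨e, he1, he2⟩ := Nat.chineseRemainder
    (Nat.Coprime.pow_left a (Nat.coprime_two_left.mpr hb)) 0 1
  obtain ⟨f, hf1, hf2⟩ := Nat.chineseRemainder
    (Nat.Coprime.pow_left a (Nat.coprime_two_left.mpr hb)) 1 0
  have h1 : (v ^ e) ^ b = 1 := by
    rw [← pow_mul, ← orderOf_dvd_iff_pow_eq_one, hab]
    exact Nat.mul_dvd_mul_right (Nat.modEq_zero_iff_dvd.mp he1) b
  have h2 : (v ^ f) ^ 2 ^ a = 1 := by
    rw [← pow_mul, ← orderOf_dvd_iff_pow_eq_one, hab, mul_comm f]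
    exact Nat.mul_dvd_mul_left _ (Nat.modEq_zero_iff_dvd.mp hf2)
  obtain ⟨j, -, hj⟩ := (Nat.dvd_prime_pow Nat.prime_two).mp (orderOf_dvd_of_pow_eq_one h2)
  refine ⟨e, f, hb.of_dvd_nat (orderOf_dvd_of_pow_eq_one h1), ⟨j, hj⟩, ?_⟩
  rw [← pow_add]
  conv_rhs => rw [← pow_one v]
  rw [pow_eq_pow_iff_modEq, hab, ← Nat.modEq_and_modEq_iff_modEq_mul
    (Nat.Coprime.pow_left a (Nat.coprime_two_left.mpr hb))]
  exact ⟨by simpa using he1.add hf1, by simpa using he2.add hf2⟩

/-- A maximal configuration. -/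
structure Config (y t : G) (Q : Subgroup G) : Prop where
  inv : IsInv y
  max : ∀ s : G, IsInv s → twoExp s ≤ twoExp y
  ord : orderOf t = 2
  tinv : t * y * t⁻¹ = y⁻¹
  twoGroup : IsPGroup 2 Q
  card_Q : Nat.card Q = 2 ^ twoExp y
  y_comm : ∀ q ∈ Q, q * y = y * q
  t_comm : ∀ q ∈ Q, q * t = t * q

variable {y t : G} {Q : Subgroup G}

theorem Config.tt (C : Config y t Q) : t * t = 1 := by
  rw [← sq, ← C.ord, pow_orderOf_eq_one]

theorem Config.tinv' (C : Config y t Q) : t⁻¹ = t := inv_eq_of_mul_eq_one_right C.tt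

theorem Config.le_of_two_group (C : Config y t Q) {s : G} (hs : IsInv s) {R : Subgroup G}
    (hR : IsPGroup 2 R) (hc : ∀ r ∈ R, r * s = s * r) (hQR : Q ≤ R) : R = Q := by
  haveI : Fact (Nat.Prime 2) := ⟨Nat.prime_two⟩
  refine (Subgroup.eq_of_le_of_card_ge hQR ?_).symm
  obtain ⟨n, hn⟩ := IsPGroup.iff_card.mp hR
  rw [hn, C.card_Q]
  refine Nat.pow_le_pow_right two_pos (le_trans ?_ (C.max s hs))
  have hle : R ≤ Subgroup.centralizer ({s} : Set G) := fun r hr =>
    Subgroup.mem_centralizer_singleton_iff.mpr (hc r hr)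
  have hd := Subgroup.card_dvd_of_le hle
  rw [hn] at hd
  exact (Nat.Prime.pow_dvd_iff_le_factorization Nat.prime_two Nat.card_pos.ne').mp hd

theorem Config.twoExp_eq (C : Config y t Q) {s : G} (hs : IsInv s)
    (hc : ∀ q ∈ Q, q * s = s * q) : twoExp s = twoExp y := by
  refine le_antisymm (C.max s hs) ?_
  have hle : Q ≤ Subgroup.centralizer ({s} : Set G) := fun q hq =>
    Subgroup.mem_centralizer_singleton_iff.mpr (hc q hq)
  have hd := Subgroup.card_dvd_of_le hle
  rw [C.card_Q] at hd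
  exact (Nat.Prime.pow_dvd_iff_le_factorization Nat.prime_two Nat.card_pos.ne').mp hd

/-- Membership in the fixed set. -/
def Config.Mem (_C : Config y t Q) (s : G) : Prop :=
  IsInv s ∧ twoExp s = twoExp y ∧ (∀ q ∈ Q, q * s = s * q) ∧ t * s * t = s⁻¹ ∧
    ∃ j, orderOf (y * s) = 2 ^ j

include hcomm in
/-- The classification of the products of `y⁻¹` with the relevant involutions. -/
theorem Config.classify (C : Config y t Q) {w : G} (hw : w * w = 1)
    (hwQ : ∀ q ∈ Q, q * w = w * q) (hwt : y * t * w = w * (y * t)) :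
    (∃ q ∈ Q, q * q = 1 ∧ C.Mem (y⁻¹ * w * q)) ∨ ∃ q ∈ Q, y⁻¹ * w = t * q := by
  have htt := C.tt
  have hti := C.tinv'
  have hyt : t * y * t = y⁻¹ := by have := C.tinv; rwa [hti] at this
  have hwi : w⁻¹ = w := inv_eq_of_mul_eq_one_right hw
  obtain ⟨v, hv⟩ : ∃ v, v = y⁻¹ * w := ⟨_, rfl⟩
  have hvQ : ∀ q ∈ Q, Commute q v := fun q hq => by
    rw [hv]
    exact (Commute.inv_right (C.y_comm q hq)).mul_right (hwQ q hq)
  have hvt : t * v * t⁻¹ = v⁻¹ := by
    have e1 : t * w * t = y⁻¹ * w * y := by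
      calc t * w * t = y⁻¹ * (y * t * w) * t := by group
        _ = y⁻¹ * w * y * (t * t) := by rw [hwt]; group
        _ = _ := by rw [htt, mul_one]
    have e2 : t * y⁻¹ * t = y := by
      calc t * y⁻¹ * t = t * (t * y * t) * t := by rw [hyt]
        _ = (t * t) * y * (t * t) := by group
        _ = y := by rw [htt, one_mul, mul_one]
    rw [hv, hti, mul_inv_rev, inv_inv, hwi]
    calc t * (y⁻¹ * w) * t = (t * y⁻¹ * t) * (t * w * t) := by
          rw [show (t * y⁻¹ * t) * (t * w * t) = t * y⁻¹ * (t * t) * w * t by group, htt]; group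
      _ = w * y := by rw [e1, e2]; group
  obtain ⟨e, f, hodd, htwo, hef⟩ := exists_odd_part v
  have hpow : ∀ n : ℕ, t * v ^ n * t⁻¹ = (v ^ n)⁻¹ := fun n => by
    rw [← conj_pow, hvt, inv_pow]
  have hbQ : ∀ q ∈ Q, v ^ f * q = q * v ^ f := fun q hq => ((hvQ q hq).pow_right f).eq.symm
  have hX := sup_zpowers C.twoGroup htwo (mem_normalizer_of_commute hbQ)
  have htn : t ∈ Subgroup.normalizer ((Q ⊔ Subgroup.zpowers (v ^ f) : Subgroup G) : Set G) := by
    have hle : Q ⊔ Subgroup.zpowers (v ^ f) ≤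
        (Q ⊔ Subgroup.zpowers (v ^ f)).comap (MulAut.conj t).toMonoidHom := by
      refine sup_le (fun q hq => ?_) (Subgroup.zpowers_le.mpr ?_)
      · rw [Subgroup.mem_comap, MulEquiv.coe_toMonoidHom, MulAut.conj_apply]
        rw [← C.t_comm q hq, mul_inv_cancel_right]
        exact Subgroup.mem_sup_left hq
      · rw [Subgroup.mem_comap, MulEquiv.coe_toMonoidHom, MulAut.conj_apply]
        rw [hpow]
        exact Subgroup.inv_mem _ (Subgroup.mem_sup_right (Subgroup.mem_zpowers _))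
    exact mem_normalizer_of_conj htt fun x hx => Subgroup.mem_comap.mp (hle hx)
  have hY := sup_zpowers hX ⟨1, by rw [C.ord, pow_one]⟩ htn
  have hbt : t * v ^ f = v ^ f * t := hcomm _ hY _ (Subgroup.mem_sup_right (Subgroup.mem_zpowers _))
    _ (Subgroup.mem_sup_left (Subgroup.mem_sup_right (Subgroup.mem_zpowers _)))
  have hbb : v ^ f * v ^ f = 1 := by
    have := hpow f
    rw [hbt, mul_inv_cancel_right] at this
    exact mul_eq_one_iff_eq_inv.mpr this
  have hvab : y⁻¹ * w = v ^ e * v ^ f := by rw [hef, hv]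
  by_cases ha : v ^ e = 1
  · right
    rw [ha, one_mul] at hvab
    obtain ⟨b, hb⟩ : ∃ b, b = v ^ f := ⟨_, rfl⟩
    rw [← hb] at hvab hbb hbt
    have hwb : w = y * b := by rw [← hvab, mul_inv_cancel_left]
    have hbi : b⁻¹ = b := inv_eq_of_mul_eq_one_right hbb
    have hbyb : b * y * b⁻¹ = y⁻¹ := by
      rw [hbi]
      apply eq_inv_of_mul_eq_one_right
      rw [← hw, hwb]
      group
    have hq1 : t * b * y = y * (t * b) := by
      calc t * b * y = t * (b * y * b⁻¹) * b := by group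
        _ = t * y⁻¹ * b := by rw [hbyb]
        _ = (t * y⁻¹ * t) * (t * b) := by
          rw [show (t * y⁻¹ * t) * (t * b) = t * y⁻¹ * (t * t) * b by group, htt, mul_one]
        _ = y * (t * b) := by
          rw [← hyt]
          rw [show t * (t * y * t) * t = (t * t) * y * (t * t) by group, htt, one_mul, mul_one]
    have hqQ : ∀ q ∈ Q, (t * b) * q = q * (t * b) := fun q hq =>
      (Commute.mul_left (C.t_comm q hq).symm (show b * q = q * b from hb ▸ hbQ q hq)).eq
    have hq2 : ∃ j, orderOf (t * b) = 2 ^ j := two_pow_of_sq (by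
      rw [show t * b * (t * b) = t * (b * t) * b by group, ← hbt,
        show t * (t * b) * b = (t * t) * (b * b) by group, htt, hbb, one_mul])
    have hR := C.le_of_two_group C.inv (sup_zpowers C.twoGroup hq2 (mem_normalizer_of_commute hqQ))
      (fun r hr => Subgroup.mem_centralizer_singleton_iff.mp
        ((sup_le (fun q hq => Subgroup.mem_centralizer_singleton_iff.mpr (C.y_comm q hq))
          (Subgroup.zpowers_le.mpr (Subgroup.mem_centralizer_singleton_iff.mpr hq1))) hr))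
      le_sup_left
    refine ⟨t * b, hR ▸ Subgroup.mem_sup_right (Subgroup.mem_zpowers _), ?_⟩
    rw [hvab, ← mul_assoc, htt, one_mul]
  · left
    have haInv : IsInv (v ^ e) := ⟨hodd, ha, t, C.ord, hpow e⟩
    have haQ : ∀ q ∈ Q, q * v ^ e = v ^ e * q := fun q hq => ((hvQ q hq).pow_right e).eq
    have hab : Commute (v ^ f) (v ^ e) := (Commute.refl v).pow_pow f e
    have hR := C.le_of_two_group haInv hX
      (fun r hr => Subgroup.mem_centralizer_singleton_iff.mp
        ((sup_le (fun q hq => Subgroup.mem_centralizer_singleton_iff.mpr (haQ q hq))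
          (Subgroup.zpowers_le.mpr (Subgroup.mem_centralizer_singleton_iff.mpr hab.eq))) hr))
      le_sup_left
    have hbmem : v ^ f ∈ Q := hR ▸ Subgroup.mem_sup_right (Subgroup.mem_zpowers _)
    refine ⟨v ^ f, hbmem, hbb, ?_⟩
    rw [hvab, mul_assoc, hbb, mul_one]
    refine ⟨haInv, C.twoExp_eq haInv haQ, haQ, by have := hpow e; rwa [hti] at this,
      two_pow_of_sq ?_⟩
    have hya : y * v ^ e = w * v ^ f := by
      calc y * v ^ e = y * (v ^ e * v ^ f) * (v ^ f)⁻¹ := by group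
        _ = w * v ^ f := by rw [← hvab, inv_eq_of_mul_eq_one_right hbb]; group
    rw [hya]
    calc w * v ^ f * (w * v ^ f) = w * (v ^ f * w) * v ^ f := by group
      _ = (w * w) * (v ^ f * v ^ f) := by rw [hwQ _ hbmem]; group
      _ = 1 := by rw [hw, hbb, one_mul]

theorem Config.mem_inv_self (C : Config y t Q) : C.Mem y⁻¹ := by
  have h : IsInv y⁻¹ := by
    obtain ⟨ho, h1, -⟩ := C.inv
    exact ⟨by rwa [orderOf_inv], inv_ne_one.mpr h1, t, C.ord, by
      rw [← C.tinv, show t * (t * y * t⁻¹) * t⁻¹ = (t * t) * y * (t * t)⁻¹ by group, C.tt,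
        inv_one, one_mul, mul_one, C.tinv, inv_inv]⟩
  refine ⟨h, ?_, fun q hq => (Commute.inv_right (C.y_comm q hq)).eq, ?_, 0, by simp⟩
  · exact C.twoExp_eq h fun q hq => (Commute.inv_right (C.y_comm q hq)).eq
  · rw [inv_inv, ← C.tinv, C.tinv', show t * (t * y * t) * t = (t * t) * y * (t * t) by group,
      C.tt, one_mul, mul_one]

include hcomm in
theorem Config.involution (C : Config y t Q) {s : G} (hs : C.Mem s) :
    y * s * (y * s) = 1 ∧ y * t * (y * s) = y * s * (y * t) := by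
  obtain ⟨-, -, hsQ, hst, htwo⟩ := hs
  have htt := C.tt
  have hti := C.tinv'
  have hyt : t * y * t = y⁻¹ := by have := C.tinv; rwa [hti] at this
  obtain ⟨u, hu⟩ : ∃ u, u = y * s := ⟨_, rfl⟩
  rw [← hu] at htwo ⊢
  obtain ⟨τ, hτ⟩ : ∃ τ, τ = y * t := ⟨_, rfl⟩
  rw [← hτ]
  have hττ : τ * τ = 1 := by
    rw [hτ, show y * t * (y * t) = y * (t * y * t) by group, hyt, mul_inv_cancel]
  have hτi : τ⁻¹ = τ := inv_eq_of_mul_eq_one_right hττ
  have hτu : τ * u * τ⁻¹ = u⁻¹ := by
    rw [hτi, hτ, hu]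
    calc y * t * (y * s) * (y * t) = y * (t * y * t) * (t * s * t) * (t * y * t) := by
          rw [show y * (t * y * t) * (t * s * t) * (t * y * t) =
            y * t * y * (t * t) * s * (t * t) * (y * t) by group, htt, mul_one, mul_one]
          group
      _ = (y * s)⁻¹ := by rw [hyt, hst]; group
  have huQ : ∀ q ∈ Q, u * q = q * u := fun q hq => by
    rw [hu]; exact (Commute.mul_left (C.y_comm q hq).symm (hsQ q hq).symm).eq
  have hτn : τ ∈ Subgroup.normalizer ((Subgroup.zpowers u : Subgroup G) : Set G) := by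
    have hle : Subgroup.zpowers u ≤ (Subgroup.zpowers u).comap (MulAut.conj τ).toMonoidHom := by
      refine Subgroup.zpowers_le.mpr ?_
      rw [Subgroup.mem_comap, MulEquiv.coe_toMonoidHom, MulAut.conj_apply]
      rw [hτu]
      exact Subgroup.inv_mem _ (Subgroup.mem_zpowers _)
    exact mem_normalizer_of_conj hττ fun x hx => Subgroup.mem_comap.mp (hle hx)
  have hY := sup_zpowers (two_pow_iff.mp htwo) (two_pow_of_sq hττ) hτn
  have hc : τ * u = u * τ := hcomm _ hY _ (Subgroup.mem_sup_right (Subgroup.mem_zpowers _))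
    _ (Subgroup.mem_sup_left (Subgroup.mem_zpowers _))
  refine ⟨?_, hc⟩
  rw [hc, mul_inv_cancel_right] at hτu
  exact mul_eq_one_iff_eq_inv.mpr hτu

theorem Config.unique (C : Config y t Q) {s₁ s₂ q₁ q₂ : G} (h₁ : C.Mem s₁) (h₂ : C.Mem s₂)
    (hq₁ : q₁ ∈ Q) (hq₂ : q₂ ∈ Q) (hsq₁ : q₁ * q₁ = 1) (hsq₂ : q₂ * q₂ = 1)
    (h : s₁ * q₁ = s₂ * q₂) : s₁ = s₂ := by
  obtain ⟨n₁, hn₁⟩ := h₁.1.1
  obtain ⟨n₂, hn₂⟩ := h₂.1.1
  have key : ∀ {s q : G}, C.Mem s → q ∈ Q → q * q = 1 →
      ∀ N : ℕ, orderOf s ∣ N → (s * q) ^ (N + 1) = s * q ^ (N + 1) := fun {s q} hs hq _ N hN => by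
    rw [(show Commute s q from (hs.2.2.1 q hq).symm).mul_pow, pow_succ s,
      orderOf_dvd_iff_pow_eq_one.mp hN, one_mul]
  have k₁ := key h₁ hq₁ hsq₁ (orderOf s₁ * orderOf s₂) (dvd_mul_right _ _)
  have k₂ := key h₂ hq₂ hsq₂ (orderOf s₁ * orderOf s₂) (dvd_mul_left _ _)
  rw [h, k₂] at k₁
  have hev : 2 ∣ orderOf s₁ * orderOf s₂ + 1 := ⟨2 * n₁ * n₂ + n₁ + n₂ + 1, by rw [hn₁, hn₂]; ring⟩
  obtain ⟨c, hc⟩ := hev
  rw [hc, pow_mul, pow_mul, sq, sq, hsq₁, hsq₂, one_pow, mul_one, mul_one] at k₁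
  exact k₁.symm

include hcomm in
/-- The count of the fixed set is odd. -/
theorem Config.odd_fixed (C : Config y t Q) (S : Finset G) (hS : ∀ s, s ∈ S ↔ C.Mem s) :
    (S.card : ZMod 2) = 1 := by
  classical
  have hy0 : y⁻¹ ∈ S := (hS _).mpr C.mem_inv_self
  have htt := C.tt
  have hτQ : ∀ q ∈ Q, y * t * q = q * (y * t) := fun q hq =>
    (Commute.mul_left (C.y_comm q hq).symm (C.t_comm q hq).symm).eq
  obtain ⟨τ, hτ⟩ : ∃ τ, τ = y * t := ⟨_, rfl⟩
  rw [← hτ] at hτQ
  have hττ : τ * τ = 1 := by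
    rw [hτ, show y * t * (y * t) = y * (t * y * t⁻¹) * (t * t) by group, C.tinv, htt,
      mul_inv_cancel, one_mul]
  have hτy : ∀ q ∈ Q, τ ≠ q := fun q hq e => by
    have h1 : t * y * t⁻¹ = y := by
      have h2 : t = y⁻¹ * q := by rw [← e, hτ, inv_mul_cancel_left]
      rw [h2]
      rw [mul_assoc y⁻¹ q y, C.y_comm q hq]
      group
    rw [C.tinv] at h1
    obtain ⟨ho, h0, -⟩ := C.inv
    have hd : orderOf y ∣ 2 := orderOf_dvd_of_pow_eq_one (by
      rw [sq]; nth_rewrite 1 [← h1]; exact inv_mul_cancel y)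
    rcases (Nat.dvd_prime Nat.prime_two).mp hd with e | e
    · exact h0 (orderOf_eq_one_iff.mp e)
    · rw [e] at ho; exact absurd ho (by decide)
  have hex : ∀ s, s ∈ S → s ≠ y⁻¹ → ∃ q ∈ Q, q * q = 1 ∧ C.Mem (s * τ * q) := by
    intro s hs hne
    obtain ⟨hu, huτ⟩ := C.involution hcomm ((hS s).mp hs)
    rw [← hτ] at huτ
    have huQ : ∀ q ∈ Q, q * (y * s) = y * s * q := fun q hq =>
      (Commute.mul_right (C.y_comm q hq) (((hS s).mp hs).2.2.1 q hq)).eq
    have hw : y * s * τ * (y * s * τ) = 1 := by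
      rw [show y * s * τ * (y * s * τ) = y * s * (τ * (y * s)) * τ by group, huτ,
        show y * s * (y * s * τ) * τ = (y * s * (y * s)) * (τ * τ) by group, hu, hττ, one_mul]
    rcases C.classify hcomm hw
      (fun q hq => (Commute.mul_right (show Commute q (y * s) from huQ q hq)
        (show Commute q τ from (hτQ q hq).symm)).eq)
      (by rw [← hτ, ← mul_assoc τ, huτ]) with ⟨q, hq, hsq, hm⟩ | ⟨q, hq, hm⟩
    · refine ⟨q, hq, hsq, ?_⟩
      rwa [show y⁻¹ * (y * s * τ) * q = s * τ * q by group] at hm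
    · exfalso
      apply hne
      have h1 : y * s * τ = τ * q := by
        calc y * s * τ = y * (y⁻¹ * (y * s * τ)) := by group
          _ = τ * q := by rw [hm, hτ]; group
      rw [← huτ] at h1
      have h2 : y * s = q := mul_left_cancel h1
      have h3 : s = y⁻¹ * q := by rw [← h2, inv_mul_cancel_left]
      refine C.unique ((hS s).mp hs) C.mem_inv_self (Q.one_mem) hq (one_mul 1) ?_ (by rw [mul_one, h3])
      rw [← h2]
      exact hu
  obtain ⟨ρ, hρ⟩ : ∃ ρ : G → G, ∀ s ∈ S.erase y⁻¹,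
      ∃ q ∈ Q, q * q = 1 ∧ ρ s = s * τ * q ∧ C.Mem (ρ s) := by
    refine ⟨fun s => if h : ∃ q ∈ Q, q * q = 1 ∧ C.Mem (s * τ * q) then s * τ * h.choose else s, ?_⟩
    intro s hs
    have h := hex s (Finset.mem_of_mem_erase hs) (Finset.mem_erase.mp hs).1
    refine ⟨h.choose, h.choose_spec.1, h.choose_spec.2.1, ?_⟩
    simp only [dif_pos h, true_and]
    exact h.choose_spec.2.2
  have hne0 : ∀ s ∈ S.erase y⁻¹, ρ s ≠ y⁻¹ := by
    intro s hs e
    obtain ⟨q, hq, hsq, heq, -⟩ := hρ s hs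
    have hqi : q⁻¹ = q := inv_eq_of_mul_eq_one_right hsq
    have hτi : τ⁻¹ = τ := inv_eq_of_mul_eq_one_right hττ
    have hsm := (hS s).mp (Finset.mem_of_mem_erase hs)
    rw [e] at heq
    have h1 : s = y⁻¹ * q⁻¹ * τ⁻¹ := by rw [heq]; group
    have h2 : s = q * t := by
      rw [h1, hqi, hτi, ← (Commute.inv_right (C.y_comm q hq)).eq, hτ]; group
    have h3 : s * s = 1 := by
      rw [h2, show q * t * (q * t) = q * (t * q) * t by group, ← C.t_comm q hq,
        show q * (q * t) * t = (q * q) * (t * t) by group, hsq, htt, one_mul]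
    obtain ⟨ho, h0, -⟩ := hsm.1
    rcases (Nat.dvd_prime Nat.prime_two).mp
      (orderOf_dvd_of_pow_eq_one (show s ^ 2 = 1 by rw [sq, h3])) with e | e
    · exact h0 (orderOf_eq_one_iff.mp e)
    · rw [e] at ho; exact absurd ho (by decide)
  have hmem : ∀ s ∈ S.erase y⁻¹, ρ s ∈ S.erase y⁻¹ := fun s hs => by
    obtain ⟨q, hq, hsq, heq, hm⟩ := hρ s hs
    exact Finset.mem_erase.mpr ⟨hne0 s hs, (hS _).mpr hm⟩
  have heven : (((S.erase y⁻¹).card : ℕ) : ZMod 2) = 0 := by
    rw [card_modEq_fixed _ ρ hmem ?_, Finset.filter_false_of_mem ?_, Finset.card_empty,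
      Nat.cast_zero]
    · intro s hs e
      obtain ⟨q, hq, hsq, heq, -⟩ := hρ s hs
      rw [e] at heq
      have h1 : τ * q = 1 := by rw [mul_assoc] at heq; exact left_eq_mul.mp heq
      exact hτy q hq (by rw [mul_eq_one_iff_eq_inv.mp h1, inv_eq_of_mul_eq_one_right hsq])
    · intro s hs
      obtain ⟨q, hq, hsq, heq, hm⟩ := hρ s hs
      obtain ⟨q', hq', hsq', heq', hm'⟩ := hρ (ρ s) (hmem s hs)
      have hqq : (q * q') * (q * q') = 1 := by
        rw [show q * q' * (q * q') = q * (q' * q) * q' by group,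
          hcomm Q C.twoGroup q' hq' q hq,
          show q * (q * q') * q' = (q * q) * (q' * q') by group, hsq, hsq', one_mul]
      refine C.unique hm' ((hS s).mp (Finset.mem_of_mem_erase hs)) Q.one_mem
        (Q.mul_mem hq hq') (one_mul 1) hqq ?_
      rw [mul_one, heq', heq, show s * τ * q * τ * q' = s * (τ * q) * τ * q' by group, hτQ q hq,
        show s * (q * τ) * τ * q' = s * q * (τ * τ) * q' by group, hττ, mul_one, mul_assoc]
  rw [← Finset.card_erase_add_one hy0, Nat.cast_add, heven, zero_add, Nat.cast_one]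

include hcomm in
/-- The number of `s` with `y * s` a 2-element is odd. -/
theorem Config.odd_count (C : Config y t Q) (K : Finset G)
    (hK : ∀ s, s ∈ K ↔ IsInv s ∧ twoExp s = twoExp y)
    [DecidablePred fun g : G => ∃ j, orderOf g = 2 ^ j] :
    ¬ Even ({s ∈ K | ∃ j, orderOf (y * s) = 2 ^ j} : Finset G).card := by
  classical
  haveI : Fact (Nat.Prime 2) := ⟨Nat.prime_two⟩
  obtain ⟨A, hA⟩ : ∃ A : Finset G, A = ({s ∈ K | ∃ j, orderOf (y * s) = 2 ^ j} : Finset G) := ⟨_, rfl⟩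
  have hAmem : ∀ s, s ∈ A ↔ (IsInv s ∧ twoExp s = twoExp y) ∧ ∃ j, orderOf (y * s) = 2 ^ j :=
    fun s => by rw [hA, Finset.mem_filter, hK]
  have hAconj : ∀ q : Q, ∀ s ∈ A, (q : G) * s * (q : G)⁻¹ ∈ A := fun q s hs => by
    obtain ⟨⟨h1, h2⟩, h3⟩ := (hAmem s).mp hs
    refine (hAmem _).mpr ⟨⟨h1.conj _, by rw [twoExp_conj, h2]⟩, ?_⟩
    have e : y * ((q : G) * s * (q : G)⁻¹) = (q : G) * (y * s) * (q : G)⁻¹ := by
      rw [← mul_assoc, ← mul_assoc, ← C.y_comm _ q.2]; group
    rw [e]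
    exact two_pow_conj h3 _
  letI : MulAction Q A :=
    { smul := fun q s => ⟨(q : G) * s * (q : G)⁻¹, hAconj q s s.2⟩
      one_smul := fun s => Subtype.ext (by
        show ((1 : Q) : G) * s * ((1 : Q) : G)⁻¹ = s
        simp)
      mul_smul := fun q r s => Subtype.ext (by
        show ((q * r : Q) : G) * s * ((q * r : Q) : G)⁻¹ = q * ((r : G) * s * (r : G)⁻¹) * (q : G)⁻¹
        push_cast
        group) }
  obtain ⟨B, hB⟩ : ∃ B : Finset G, B = ({s ∈ A | ∀ q ∈ Q, q * s = s * q} : Finset G) := ⟨_, rfl⟩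
  have hBmem : ∀ s, s ∈ B ↔ s ∈ A ∧ ∀ q ∈ Q, q * s = s * q := fun s => by
    rw [hB, Finset.mem_filter]
  have hcard : (A.card : ZMod 2) = B.card := by
    have h := C.twoGroup.card_modEq_card_fixedPoints A
    rw [Nat.card_eq_fintype_card, Fintype.card_coe] at h
    have hb : Nat.card (MulAction.fixedPoints Q A) = B.card := by
      rw [← Fintype.card_coe B, ← Nat.card_eq_fintype_card]
      refine Nat.card_congr
        { toFun := fun s => ⟨s.1.1, by
            rw [hB, Finset.mem_filter]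
            refine ⟨s.1.2, fun q hq => ?_⟩
            have := congrArg Subtype.val (s.2 ⟨q, hq⟩)
            exact mul_inv_eq_iff_eq_mul.mp this⟩
          invFun := fun s => ⟨⟨s.1, ((hBmem s.1).mp s.2).1⟩, fun q => Subtype.ext
            (mul_inv_eq_iff_eq_mul.mpr (((hBmem s.1).mp s.2).2 q q.2))⟩
          left_inv := fun s => rfl
          right_inv := fun s => rfl }
    rw [hb] at h
    exact (ZMod.natCast_eq_natCast_iff _ _ _).mpr h
  have htt := C.tt
  have hti := C.tinv'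
  have hyt : t * y * t = y⁻¹ := by have := C.tinv; rwa [hti] at this
  have hBstable : ∀ s ∈ B, t * s⁻¹ * t ∈ B := fun s hs => by
    rw [hB, Finset.mem_filter, hAmem] at hs ⊢
    obtain ⟨⟨⟨h1, h2⟩, h3⟩, h4⟩ := hs
    obtain ⟨ho, h0, u, hu, hus⟩ := h1
    have hinv : u * s⁻¹ * u⁻¹ = s := by
      rw [show u * s⁻¹ * u⁻¹ = (u * s * u⁻¹)⁻¹ by group, hus, inv_inv]
    have h1' : IsInv s⁻¹ :=
      ⟨by rwa [orderOf_inv], inv_ne_one.mpr h0, u, hu, by rw [hinv, inv_inv]⟩
    have h2' : twoExp s⁻¹ = twoExp y := by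
      rw [← hus, twoExp_conj, h2]
    refine ⟨⟨⟨?_, ?_⟩, ?_⟩, fun q hq => ?_⟩
    · have := h1'.conj t
      rwa [hti] at this
    · have := twoExp_conj s⁻¹ t
      rw [hti] at this
      rw [this, h2']
    · have e2 : y = t * y⁻¹ * t := by
        rw [← hyt, show t * (t * y * t) * t = (t * t) * y * (t * t) by group, htt, one_mul, mul_one]
      have e : y * (t * s⁻¹ * t) = (t * y⁻¹) * (y * (t * t) * s)⁻¹ * y * (t * (t * t)) := by
        conv_lhs => rw [e2]
        rw [htt]
        rw [show t * y⁻¹ * t * (t * s⁻¹ * t) = t * y⁻¹ * (t * t) * s⁻¹ * t by group, htt]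
        group
      rw [htt, mul_one, mul_one] at e
      have e' : t * y⁻¹ * (y * s)⁻¹ * y * t = (t * y⁻¹) * (y * s)⁻¹ * (t * y⁻¹)⁻¹ := by
        rw [mul_inv_rev t y⁻¹, inv_inv, hti]; group
      rw [e'] at e
      rw [e]
      obtain ⟨j, hj⟩ := h3
      exact two_pow_conj ⟨j, by rw [orderOf_inv, hj]⟩ _
    · exact ((show Commute q t from C.t_comm q hq).mul_right
        (Commute.inv_right (show Commute q s from h4 q hq))).mul_right (C.t_comm q hq) |>.eq
  have hBB := card_modEq_fixed B (fun s => t * s⁻¹ * t) hBstable fun s _ => by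
    simp only [mul_inv_rev, inv_inv, hti]
    calc t * (t * (s * t)) * t = (t * t) * s * (t * t) := by group
      _ = s := by rw [htt, one_mul, mul_one]
  rw [C.odd_fixed hcomm ({s ∈ B | t * s⁻¹ * t = s} : Finset G) fun s => ?_] at hBB
  · intro hev
    obtain ⟨c, hc⟩ := hev
    rw [← hA] at hc
    rw [← hcard, hc, ← two_mul, Nat.cast_mul, show ((2 : ℕ) : ZMod 2) = 0 from rfl, zero_mul] at hBB
    exact zero_ne_one hBB
  · rw [Finset.mem_filter, hB, Finset.mem_filter, hAmem]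
    constructor
    · rintro ⟨⟨⟨⟨h1, h2⟩, h3⟩, h4⟩, h5⟩
      refine ⟨h1, h2, h4, ?_, h3⟩
      calc t * s * t = (t * s⁻¹ * t)⁻¹ := by rw [mul_inv_rev, mul_inv_rev, inv_inv, hti, mul_assoc]
        _ = s⁻¹ := by rw [h5]
    · rintro ⟨h1, h2, h4, h5, h3⟩
      refine ⟨⟨⟨⟨h1, h2⟩, h3⟩, h4⟩, ?_⟩
      calc t * s⁻¹ * t = (t * s * t)⁻¹ := by rw [mul_inv_rev, mul_inv_rev, hti, mul_assoc]
        _ = s := by rw [h5, inv_inv]

/-- An invariant Sylow subgroup of the centralizer. -/
theorem exists_config (hcomm : ∀ H : Subgroup G, IsPGroup 2 H → ∀ a ∈ H, ∀ b ∈ H, a * b = b * a)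
    {y t : G} (hy : IsInv y) (hmax : ∀ s : G, IsInv s → twoExp s ≤ twoExp y)
    (ht : orderOf t = 2) (hty : t * y * t⁻¹ = y⁻¹) : ∃ Q : Subgroup G, Config y t Q := by
  classical
  haveI : Fact (Nat.Prime 2) := ⟨Nat.prime_two⟩
  obtain ⟨C, hC⟩ : ∃ C : Subgroup G, C = Subgroup.centralizer ({y} : Set G) := ⟨_, rfl⟩
  have hn : (twoExp y) = (Nat.card C).factorization 2 := by rw [hC]; rfl
  let e : Sylow 2 C ≃ {Q : Subgroup G // Q ≤ C ∧ Nat.card Q = 2 ^ twoExp y} :=
    { toFun := fun S => ⟨(S : Subgroup C).map C.subtype, Subgroup.map_subtype_le _, by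
        rw [Subgroup.card_map_of_injective C.subtype_injective, hn]
        exact S.card_eq_multiplicity⟩
      invFun := fun Q => Sylow.ofCard (Q.1.subgroupOf C) (by
        rw [Nat.card_congr (Subgroup.subgroupOfEquivOfLe Q.2.1).toEquiv, Q.2.2, hn])
      left_inv := fun S => by
        apply Sylow.ext
        rw [Sylow.coe_ofCard]
        exact Subgroup.comap_map_eq_self_of_injective C.subtype_injective _
      right_inv := fun Q => Subtype.ext (by
        show ((Sylow.ofCard _ _ : Sylow 2 C) : Subgroup C).map C.subtype = Q.1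
        rw [Sylow.coe_ofCard, Subgroup.map_subgroupOf_eq_of_le Q.2.1]) }
  have htt : t * t = 1 := by rw [← sq, ← ht, pow_orderOf_eq_one]
  have htC : ∀ c ∈ C, t * c * t⁻¹ ∈ C := fun c hc => by
    rw [hC, Subgroup.mem_centralizer_singleton_iff] at hc ⊢
    have hyi : y = t * y⁻¹ * t⁻¹ := by
      rw [← hty, show t * (t * y * t⁻¹) * t⁻¹ = (t * t) * y * (t * t)⁻¹ by group, htt, one_mul,
        inv_one, mul_one]
    have hci : c * y⁻¹ = y⁻¹ * c := (Commute.inv_right hc).eq
    conv_lhs => rw [hyi]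
    conv_rhs => rw [hyi]
    calc t * c * t⁻¹ * (t * y⁻¹ * t⁻¹) = t * (c * y⁻¹) * t⁻¹ := by group
      _ = t * (y⁻¹ * c) * t⁻¹ := by rw [hci]
      _ = _ := by group
  let σ : Equiv.Perm {Q : Subgroup G // Q ≤ C ∧ Nat.card Q = 2 ^ twoExp y} :=
    Function.Involutive.toPerm (fun Q => ⟨Q.1.map (MulAut.conj t).toMonoidHom, by
        rintro _ ⟨c, hc, rfl⟩
        exact htC c (Q.2.1 hc), by
        rw [Subgroup.card_map_of_injective (MulAut.conj t).injective, Q.2.2]⟩) fun Q => Subtype.ext (by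
      show (Q.1.map (MulAut.conj t).toMonoidHom).map (MulAut.conj t).toMonoidHom = Q.1
      rw [Subgroup.map_map]
      convert Subgroup.map_id Q.1
      ext x
      show t * (t * x * t⁻¹) * t⁻¹ = x
      rw [show t * (t * x * t⁻¹) * t⁻¹ = (t * t) * x * (t * t)⁻¹ by group, htt, one_mul, inv_one,
        mul_one])
  haveI := Fintype.ofFinite {Q : Subgroup G // Q ≤ C ∧ Nat.card Q = 2 ^ twoExp y}
  obtain ⟨⟨Q, hQC, hQcard⟩, hfix⟩ := Equiv.Perm.exists_fixed_point_of_prime (p := 2) (n := 1)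
    (σ := σ) (by
      rw [← Nat.card_eq_fintype_card, ← Nat.card_congr e]
      exact not_dvd_card_sylow 2 C)
    (by
      rw [pow_one]
      ext1 Q
      rw [sq, Equiv.Perm.mul_apply]
      exact Function.Involutive.toPerm_involutive _ Q)
  have hQ2 : IsPGroup 2 Q := IsPGroup.of_card hQcard
  have htn : t ∈ Subgroup.normalizer (Q : Set G) := by
    have hmap : Q.map (MulAut.conj t).toMonoidHom = Q := congrArg Subtype.val hfix
    refine Subgroup.mem_normalizer_iff.mpr fun x => ⟨fun hx => hmap ▸ ⟨x, hx, rfl⟩, fun hx => ?_⟩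
    rw [← hmap] at hx
    obtain ⟨z, hz, hzx⟩ := hx
    exact (MulAut.conj t).injective (hzx : t * z * t⁻¹ = t * x * t⁻¹) ▸ hz
  have hY := sup_zpowers hQ2 ⟨1, by rw [ht, pow_one]⟩ htn
  refine ⟨Q, hy, hmax, ht, hty, hQ2, hQcard, fun q hq => ?_, fun q hq => ?_⟩
  · exact Subgroup.mem_centralizer_singleton_iff.mp (hC ▸ hQC hq)
  · exact hcomm _ hY _ (Subgroup.mem_sup_left hq) _ (Subgroup.mem_sup_right (Subgroup.mem_zpowers _))

end CfsgLib.GaloisFixed
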