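import Cfsg.Agent.Lib.Baer.Basic
import Cfsg.Agent.Lib.Char.OddDegreeSum
import Cfsg.Agent.Lib.Char.Extraspecial
import Cfsg.Agent.Lib.Char.Twist
import Cfsg.Agent.Lib.Char.Table
import Cfsg.Agent.Lib.Char.Projective
import Cfsg.Agent.Lib.Char.Artin
import Cfsg.Agent.Lib.Blocks.CentralChar
import Cfsg.Agent.Lib.Blocks.Inflate
import Cfsg.Agent.Lib.IsaacsPassman.Quot
import Mathlib.Data.ZMod.Basic

/-!
# Reductions for the Galois fixed and the real characters of odd degree

If in no quotient an involution inverts a nontrivial element of odd order, the Sylow two-subgroups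
are normal.  If moreover all fixed characters have odd degree, they are commutative.
-/

set_option autoImplicit false
set_option linter.unusedSectionVars false
set_option linter.style.haveILetI false

namespace CfsgLib.GaloisFixed

open Cfsg CfsgLib
open scoped ComplexConjugate CfsgLib.Char

universe u

/-- No element of order at most two inverts a nontrivial element of odd order. -/
def NoInv (H : Type*) [Group H] : Prop :=
  ∀ t y : H, t * t = 1 → Odd (orderOf y) → t * y * t⁻¹ = y⁻¹ → y = 1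

theorem isPGroup_closure_pair {G : Type*} [Group G] [Finite G] (h : NoInv G) {a b : G}
    (ha : a * a = 1) (hb : b * b = 1) : IsPGroup 2 (Subgroup.closure ({a, b} : Set G)) := by
  haveI : Fact (Nat.Prime 2) := ⟨Nat.prime_two⟩
  have hai : a⁻¹ = a := inv_eq_of_mul_eq_one_right ha
  have hbi : b⁻¹ = b := inv_eq_of_mul_eq_one_right hb
  set z := a * b with hz
  have hinv : a * z * a⁻¹ = z⁻¹ := by
    rw [hz, mul_inv_rev, hai, hbi, ← mul_assoc a a b, ha, one_mul]
  obtain ⟨c, hc⟩ : ∃ c, orderOf z = 2 ^ c := by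
    obtain ⟨c, m, hm, he⟩ := Nat.exists_eq_pow_mul_and_not_dvd (orderOf_pos z).ne' 2 (by norm_num)
    refine ⟨c, ?_⟩
    have ho : orderOf (z ^ (2 ^ c)) = m := by
      rw [orderOf_pow_of_dvd (pow_ne_zero _ two_ne_zero) ⟨m, he⟩, he,
        Nat.mul_div_cancel_left _ (Nat.two_pow_pos c)]
    have hy := h a (z ^ (2 ^ c)) ha (by rw [ho]; exact Nat.odd_iff.mpr (by omega))
      (by rw [← conj_pow, hinv, inv_pow])
    rw [hy, orderOf_one] at ho
    rw [he, ← ho, mul_one]
  have hZ : IsPGroup 2 (Subgroup.zpowers z) :=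
    IsPGroup.of_card (n := c) (by rw [Nat.card_zpowers, hc])
  have hA : IsPGroup 2 (Subgroup.zpowers a) := by
    obtain ⟨n, -, hn⟩ := (Nat.dvd_prime_pow Nat.prime_two).mp
      (show orderOf a ∣ 2 ^ 1 from orderOf_dvd_of_pow_eq_one (by rw [pow_one, sq, ha]))
    exact IsPGroup.of_card (n := n) (by rw [Nat.card_zpowers, hn])
  have hn : Subgroup.zpowers a ≤ Subgroup.normalizer (Subgroup.zpowers z : Set G) := by
    rw [Subgroup.zpowers_le, Subgroup.mem_normalizer_iff]
    have hmap : ∀ w ∈ Subgroup.zpowers z, a * w * a⁻¹ ∈ Subgroup.zpowers z := by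
      rintro _ ⟨n, rfl⟩
      exact ⟨-n, by show z ^ (-n) = a * z ^ n * a⁻¹; rw [← conj_zpow, hinv, inv_zpow, zpow_neg]⟩
    refine fun w => ⟨hmap w, fun hw => ?_⟩
    have := hmap _ hw
    simp only [hai] at this
    rwa [show a * (a * w * a) * a = (a * a) * w * (a * a) by simp only [mul_assoc], ha, one_mul,
      mul_one] at this
  refine (hZ.to_sup_of_normal_left' hA hn).to_le ((Subgroup.closure_le _).mpr ?_)
  rintro w (rfl | rfl)
  · exact (le_sup_right : Subgroup.zpowers w ≤ _) (Subgroup.mem_zpowers w)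
  · have e : w = a * z := by rw [hz, ← mul_assoc, ha, one_mul]
    rw [e]
    exact mul_mem ((le_sup_right : Subgroup.zpowers a ≤ _) (Subgroup.mem_zpowers a))
      ((le_sup_left : Subgroup.zpowers z ≤ _) (Subgroup.mem_zpowers z))

/-- If no quotient has such an element, the Sylow two-subgroups are normal. -/
theorem sylow_normal : ∀ (n : ℕ) (G : Type u) [Group G] [Finite G], Nat.card G = n →
    (∀ (Q : Type u) [Group Q] [Finite Q] (f : G →* Q), Function.Surjective f → NoInv Q) →
    ∀ P : Sylow 2 G, (P : Subgroup G).Normal := by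
  intro n
  induction n using Nat.strong_induction_on with
  | _ n IH =>
  intro G _ _ hn hQ P
  haveI : Fact (Nat.Prime 2) := ⟨Nat.prime_two⟩
  by_cases h2 : 2 ∣ Nat.card G
  swap
  · have e : (P : Subgroup G) = ⊥ := by
      rw [← Subgroup.card_eq_one, P.card_eq_multiplicity,
        Nat.factorization_eq_zero_of_not_dvd h2, pow_zero]
    rw [e]
    infer_instance
  obtain ⟨a, ha⟩ := exists_prime_orderOf_dvd_card' 2 h2
  have ha2 : a * a = 1 := by rw [← sq, ← ha, pow_orderOf_eq_one]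
  have hA : IsPGroup 2 (Subgroup.zpowers a) :=
    IsPGroup.of_card (n := 1) (by rw [Nat.card_zpowers, ha, pow_one])
  obtain ⟨N, hNn, hNp, haN⟩ := Baer.baer_suzuki (Subgroup.zpowers a) hA fun g => by
    refine (isPGroup_closure_pair (hQ G (MonoidHom.id G) fun x => ⟨x, rfl⟩) ha2
      (b := g * a * g⁻¹) ?_).to_le (sup_le ?_ ?_)
    · rw [show g * a * g⁻¹ * (g * a * g⁻¹) = g * (a * a) * g⁻¹ by group, ha2, mul_one, mul_inv_cancel]
    · exact Subgroup.zpowers_le.mpr (Subgroup.subset_closure (Set.mem_insert _ _))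
    · rw [MonoidHom.map_zpowers, Subgroup.zpowers_le]
      exact Subgroup.subset_closure (Set.mem_insert_of_mem _ (by simp))
  haveI := hNn
  have hne : N ≠ ⊥ := by
    rintro rfl
    have := Subgroup.mem_bot.mp (haN (Subgroup.mem_zpowers a))
    rw [this, orderOf_one] at ha
    omega
  have hlt : Nat.card (G ⧸ N) < n := by
    have h1 := N.card_eq_card_quotient_mul_card_subgroup
    have h2' : 1 < Nat.card N := N.one_lt_card_iff_ne_bot.mpr hne
    rw [← hn, h1]
    exact lt_mul_of_one_lt_right Nat.card_pos h2'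
  have hsur := QuotientGroup.mk'_surjective N
  have hbar := IH _ hlt (G ⧸ N) rfl (fun Q _ _ f hf => hQ Q (f.comp (QuotientGroup.mk' N))
    (hf.comp hsur)) (P.mapSurjective hsur)
  rw [Sylow.coe_mapSurjective] at hbar
  have hle : N ≤ (P : Subgroup G) := by
    obtain ⟨S, hS⟩ := hNp.exists_le_sylow
    obtain ⟨g, rfl⟩ := MulAction.exists_smul_eq G P S
    intro w hw
    have := hS (hNn.conj_mem w hw g)
    rw [Sylow.coe_subgroup_smul, Subgroup.mem_pointwise_smul_iff_inv_smul_mem] at this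
    simpa [mul_assoc] using this
  have hc := hbar.comap (QuotientGroup.mk' N)
  rwa [Subgroup.comap_map_eq_self (by rwa [QuotientGroup.ker_mk'])] at hc

/-! ### The exponent -/

variable {G : Type*} [Group G] [Finite G] {k : ℕ}

/-- The hypotheses on the exponent pass to images. -/
theorem exponent_image {Q : Type*} [Group Q] [Finite Q]
    (hk₁ : ∀ g : G, (∃ j : ℕ, orderOf g = 2 ^ j) → g ^ k = g)
    (hk₂ : ∀ g : G, Odd (orderOf g) → g ^ k = g⁻¹) (f : G →* Q) (hf : Function.Surjective f) :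
    (∀ q : Q, (∃ j : ℕ, orderOf q = 2 ^ j) → q ^ k = q) ∧
      ∀ q : Q, Odd (orderOf q) → q ^ k = q⁻¹ := by
  constructor
  · rintro q ⟨j, hj⟩
    obtain ⟨g, rfl⟩ := hf q
    obtain ⟨a, m, hm, he⟩ := Nat.exists_eq_pow_mul_and_not_dvd (orderOf_pos g).ne' 2 (by norm_num)
    have hcop : Nat.Coprime m (orderOf (f g)) :=
      hj ▸ (Nat.prime_two.coprime_pow_of_not_dvd hm).symm.symm
    obtain ⟨c, hc⟩ := exists_pow_eq_self_of_coprime (x := f g) hcop
    have h2 : ∃ i : ℕ, orderOf ((g ^ m) ^ c) = 2 ^ i := by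
      obtain ⟨i, -, hi⟩ := (Nat.dvd_prime_pow Nat.prime_two).mp
        (show orderOf ((g ^ m) ^ c) ∣ 2 ^ a from orderOf_dvd_of_pow_eq_one (by
          rw [← pow_mul, ← pow_mul, show m * (c * 2 ^ a) = orderOf g * c by rw [he]; ring,
            pow_mul, pow_orderOf_eq_one, one_pow]))
      exact ⟨i, hi⟩
    have := congrArg f (hk₁ _ h2)
    rwa [map_pow, map_pow, map_pow, hc] at this
  · intro q hq
    obtain ⟨g, rfl⟩ := hf q
    obtain ⟨a, m, hm, he⟩ := Nat.exists_eq_pow_mul_and_not_dvd (orderOf_pos g).ne' 2 (by norm_num)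
    have hcop : Nat.Coprime (2 ^ a) (orderOf (f g)) :=
      Nat.Coprime.pow_left _ (Nat.coprime_two_left.mpr hq)
    obtain ⟨c, hc⟩ := exists_pow_eq_self_of_coprime (x := f g) hcop
    have ho : Odd (orderOf ((g ^ 2 ^ a) ^ c)) := by
      have hd : orderOf ((g ^ 2 ^ a) ^ c) ∣ m := orderOf_dvd_of_pow_eq_one (by
        rw [← pow_mul, ← pow_mul, show 2 ^ a * (c * m) = orderOf g * c by rw [he]; ring, pow_mul,
          pow_orderOf_eq_one, one_pow])
      exact (Nat.odd_iff.mpr (by omega)).of_dvd_nat hd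
    have := congrArg f (hk₂ _ ho)
    rwa [map_pow, map_inv, map_pow, map_pow, hc] at this

theorem exponent_coprime (hk₁ : ∀ g : G, (∃ j : ℕ, orderOf g = 2 ^ j) → g ^ k = g)
    (hk₂ : ∀ g : G, Odd (orderOf g) → g ^ k = g⁻¹) : k.Coprime (Nat.card G) := by
  refine Nat.coprime_of_dvd fun r hr hrk hrG => ?_
  haveI := Fact.mk hr
  obtain ⟨g, hg⟩ := exists_prime_orderOf_dvd_card' r hrG
  have h1 : g ^ k = 1 := orderOf_dvd_iff_pow_eq_one.mp (hg ▸ hrk)
  have hne : g ≠ 1 := fun e => hr.ne_one (by rw [← hg, e, orderOf_one])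
  rcases hr.eq_two_or_odd' with rfl | ho
  · exact hne ((hk₁ g ⟨1, by rw [hg, pow_one]⟩).symm.trans h1)
  · exact hne (inv_eq_one.mp ((hk₂ g (by rwa [hg])).symm.trans h1))

theorem pow_pow_self (hk₁ : ∀ g : G, (∃ j : ℕ, orderOf g = 2 ^ j) → g ^ k = g)
    (hk₂ : ∀ g : G, Odd (orderOf g) → g ^ k = g⁻¹) (g : G) : (g ^ k) ^ k = g := by
  obtain ⟨a, m, hm, he⟩ := Nat.exists_eq_pow_mul_and_not_dvd (orderOf_pos g).ne' 2 (by norm_num)
  have hodd : Odd m := Nat.odd_iff.mpr (by omega)
  have h2a : ∃ j : ℕ, orderOf (g ^ m) = 2 ^ j := ⟨a, by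
    rw [orderOf_pow_of_dvd (by omega) ⟨2 ^ a, by rw [he]; ring⟩, he,
      Nat.mul_div_cancel _ (by omega)]⟩
  have hmo : Odd (orderOf (g ^ 2 ^ a)) := by
    rw [orderOf_pow_of_dvd (pow_ne_zero _ two_ne_zero) ⟨m, he⟩, he,
      Nat.mul_div_cancel_left _ (Nat.two_pow_pos a)]
    exact hodd
  have e1 : ((g ^ k) ^ k) ^ m = g ^ m := by
    rw [← pow_mul, ← pow_mul, show k * (k * m) = m * k * k by ring, pow_mul, pow_mul, hk₁ _ h2a,
      hk₁ _ h2a]
  have e2 : ((g ^ k) ^ k) ^ 2 ^ a = g ^ 2 ^ a := by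
    rw [← pow_mul, ← pow_mul, show k * (k * 2 ^ a) = 2 ^ a * k * k by ring, pow_mul, pow_mul,
      hk₂ _ hmo, inv_pow, hk₂ _ hmo, inv_inv]
  have hcom : Commute ((g ^ k) ^ k) g := ((Commute.refl g).pow_left k).pow_left k
  have d1 : ((g ^ k) ^ k * g⁻¹) ^ m = 1 := by
    rw [hcom.inv_right.mul_pow, e1, inv_pow, mul_inv_cancel]
  have d2 : ((g ^ k) ^ k * g⁻¹) ^ 2 ^ a = 1 := by
    rw [hcom.inv_right.mul_pow, e2, inv_pow, mul_inv_cancel]
  exact mul_inv_eq_one.mp (orderOf_eq_one_iff.mp (Nat.eq_one_of_dvd_coprimes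
    ((Nat.prime_two.coprime_pow_of_not_dvd hm))
    (orderOf_dvd_of_pow_eq_one d1) (orderOf_dvd_of_pow_eq_one d2)))

/-! ### Fixed characters -/

/-- Every character fixed by the power map has odd degree. -/
def FixedOdd (G : Type*) [Group G] (k : ℕ) : Prop :=
  ∀ χ : IrrCharacter G, (∀ g : G, (χ : G → ℂ) (g ^ k) = (χ : G → ℂ) g) →
    Odd (charDegree (χ : G → ℂ))

/-- Every real valued character has odd degree. -/
def RealOddDeg (G : Type*) [Group G] : Prop :=
  ∀ χ : IrrCharacter G, (∀ g : G, ((χ : G → ℂ) g).im = 0) → Odd (charDegree (χ : G → ℂ))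

theorem charDegree_inflate {Q : Type*} [Group Q] (f : G →* Q) (hf : Function.Surjective f)
    (η : IrrCharacter Q) :
    charDegree ((Blocks.inflate f hf η : IrrCharacter G) : G → ℂ) = charDegree (η : Q → ℂ) := by
  have e : ((Blocks.inflate f hf η : IrrCharacter G) : G → ℂ) 1 = (η : Q → ℂ) 1 :=
    congrArg (η : Q → ℂ) f.map_one
  unfold charDegree
  rw [e]

theorem fixedOdd_image {Q : Type*} [Group Q] (f : G →* Q) (hf : Function.Surjective f)
    (h : FixedOdd G k) : FixedOdd Q k := fun η hη => by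
  rw [← charDegree_inflate f hf η]
  exact h _ fun g => by
    show (η : Q → ℂ) (f (g ^ k)) = (η : Q → ℂ) (f g)
    rw [map_pow]
    exact hη _

theorem realOddDeg_image {Q : Type*} [Group Q] (f : G →* Q) (hf : Function.Surjective f)
    (h : RealOddDeg G) : RealOddDeg Q := fun η hη => by
  rw [← charDegree_inflate f hf η]
  exact h _ fun g => hη (f g)

/-- A normal commutative Sylow two-subgroup forces odd degrees. -/
theorem odd_degree_of_abelian_normal (P : Sylow 2 G) [(P : Subgroup G).Normal]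
    (hab : IsMulCommutative (P : Subgroup G)) (χ : IrrCharacter G) :
    Odd (charDegree (χ : G → ℂ)) := by
  haveI := hab
  haveI : Fintype G := Fintype.ofFinite G
  haveI : Fact (Nat.Prime 2) := ⟨Nat.prime_two⟩
  have hd := Char.Extraspecial.ito χ.2 (P : Subgroup G)
    (fun a ha b hb => congrArg Subtype.val (mul_comm' (⟨a, ha⟩ : (P : Subgroup G)) ⟨b, hb⟩))
    (Blocks.irr_degree_eq χ).1
  have hi : Odd (P : Subgroup G).index := by
    rw [← Nat.not_even_iff_odd, even_iff_two_dvd]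
    exact P.not_dvd_index
  exact hi.of_dvd_nat hd

/-- A sum over a set with an involution is congruent to the sum over the fixed points. -/
theorem even_sum_of_involutive {ι : Type*} [Fintype ι] (τ : ι → ι) (hτ : ∀ i, τ (τ i) = i)
    (F : ι → ℕ) (hF : ∀ i, F (τ i) = F i) (h0 : ∀ i, τ i = i → F i = 0) : Even (∑ i, F i) := by
  classical
  rw [← ZMod.natCast_eq_zero_iff_even, Nat.cast_sum]
  refine Finset.sum_involution (fun i _ => τ i) (fun i _ => ?_) (fun i _ hi e => hi ?_)
    (fun i _ => Finset.mem_univ _) fun i _ => hτ i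
  · rw [hF]
    exact CharTwo.add_self_eq_zero _
  · rw [h0 i e, Nat.cast_zero]

/-- If the fixed characters have odd degree, a normal Sylow two-subgroup is commutative. -/
theorem abelian_of_fixedOdd (hk₁ : ∀ g : G, (∃ j : ℕ, orderOf g = 2 ^ j) → g ^ k = g)
    (hk₂ : ∀ g : G, Odd (orderOf g) → g ^ k = g⁻¹) (h : FixedOdd G k) (P : Sylow 2 G)
    [(P : Subgroup G).Normal] : IsMulCommutative (P : Subgroup G) := by
  classical
  haveI : Fintype G := Fintype.ofFinite G
  haveI : Fintype (P : Subgroup G) := Fintype.ofFinite _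
  haveI : Fact (Nat.Prime 2) := ⟨Nat.prime_two⟩
  by_contra hna
  have hcomm : commutator (P : Subgroup G) ≠ ⊥ := fun e => hna ⟨⟨fun a b => by
    have := IP.commutator_mem a b
    rw [e, Subgroup.mem_bot] at this
    exact mul_inv_eq_iff_eq_mul.mp (mul_inv_eq_one.mp this)⟩⟩
  obtain ⟨θ, d, hd, hd2⟩ := IP.exists_nonlinear (S := (P : Subgroup G)) hcomm
  have hdeven : Even d := by
    obtain ⟨m, hm⟩ := P.2.exists_card_eq
    have hdvd : d ∣ 2 ^ m := by
      have := Char.OddDegreeSum.charDegree_dvd_card θ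
      rwa [Char.Extraspecial.charDegree_eq hd, hm] at this
    obtain ⟨i, -, rfl⟩ := (Nat.dvd_prime_pow Nat.prime_two).mp hdvd
    exact Nat.even_pow.mpr ⟨even_two, fun e => by subst e; simp at hd2⟩
  have hd0 : (d : ℂ) ≠ 0 := Nat.cast_ne_zero.mpr (by omega)
  have hcop := exponent_coprime hk₁ hk₂
  let τ : IrrCharacter G → IrrCharacter G := fun χ =>
    ⟨fun g => (χ : G → ℂ) (g ^ k), Char.isIrrCharacter_pow hcop χ.2⟩
  have hτ : ∀ χ, τ (τ χ) = χ := fun χ => Subtype.ext (funext fun g => by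
    show (χ : G → ℂ) ((g ^ k) ^ k) = _
    rw [pow_pow_self hk₁ hk₂])
  have hP2 : ∀ p : (P : Subgroup G), (p : G) ^ k = p := fun p => hk₁ _ (by
    obtain ⟨j, hj⟩ := IsPGroup.iff_orderOf.mp P.2 p
    exact ⟨j, by rw [Subgroup.orderOf_coe, hj]⟩)
  choose m hm using fun χ : IrrCharacter G => Char.exists_nat_classInner
    (Char.isCharacter_restrict (P : Subgroup G) (Char.isCharacter_of_isIrr χ.2))
    (Char.isCharacter_of_isIrr θ.2)
  have hrat : ∀ χ : IrrCharacter G, ∃ e : ℕ, m χ ≠ 0 → (χ : G → ℂ) 1 = e * d := fun χ => by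
    by_cases h0 : m χ = 0
    · exact ⟨0, fun h => absurd h0 h⟩
    obtain ⟨e, he, -⟩ := Char.degree_ratio (P : Subgroup G) θ.2 χ.2 (by rw [hm χ]; exact Nat.cast_ne_zero.mpr h0)
    exact ⟨e, fun _ => by rw [he, hd]⟩
  choose e he using hrat
  have hmτ : ∀ χ, m (τ χ) = m χ := fun χ => by
    apply Nat.cast_injective (R := ℂ)
    rw [← hm, ← hm]
    congr 1
    funext p
    show (χ : G → ℂ) ((p : G) ^ k) = _
    rw [hP2]
  have hdegτ : ∀ χ, ((τ χ : G → ℂ) 1) = (χ : G → ℂ) 1 := fun χ => congrArg (χ : G → ℂ) (one_pow k)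
  have hev := even_sum_of_involutive τ hτ (fun χ => m χ * e χ) (fun χ => by
    show m (τ χ) * e (τ χ) = m χ * e χ
    rw [hmτ]
    rcases eq_or_ne (m χ) 0 with h0 | h0
    · rw [h0, zero_mul, zero_mul]
    have h1 := he (τ χ) (by rw [hmτ]; exact h0)
    rw [hdegτ, he χ h0] at h1
    rw [Nat.cast_injective (mul_right_cancel₀ hd0 h1)])
    (fun χ hfix => by
      by_contra hne
      have h0 : m χ ≠ 0 := fun h => hne (by rw [h, zero_mul])
      have hodd := h χ fun g => congrFun (congrArg Subtype.val hfix) g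
      rw [Char.Extraspecial.charDegree_eq (d := e χ * d) (by rw [he χ h0]; push_cast; ring)] at hodd
      exact (Nat.not_even_iff_odd.mpr hodd) (hdeven.mul_left _))
  have hsum : ((∑ χ, m χ * e χ : ℕ) : ℂ) * d = ((P : Subgroup G).index : ℂ) * d := by
    have h1 : ((∑ χ, m χ * e χ : ℕ) : ℂ) * d = ∑ χ : IrrCharacter G, (m χ : ℂ) * (χ : G → ℂ) 1 := by
      rw [Nat.cast_sum, Finset.sum_mul]
      refine Finset.sum_congr rfl fun χ _ => ?_
      rcases eq_or_ne (m χ) 0 with h0 | h0
      · rw [h0]; simp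
      · rw [he χ h0]; push_cast; ring
    have hcol : ∀ p : (P : Subgroup G),
        ∑ χ : IrrCharacter G, (χ : G → ℂ) p * (χ : G → ℂ) 1 =
          if p = 1 then (Nat.card G : ℂ) else 0 := fun p => by
      have hc := Char.column_orthogonality (p : G) 1
      have e1 : ∀ χ : IrrCharacter G, conj ((χ : G → ℂ) 1) = (χ : G → ℂ) 1 := fun χ => by
        rw [(Blocks.irr_degree_eq χ).1, map_natCast]
      simp only [e1] at hc
      rw [hc]
      by_cases hp : p = 1
      · subst hp
        rw [OneMemClass.coe_one, if_pos (IsConj.refl _), if_pos rfl]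
        congr 1
        have : Subgroup.centralizer ({(1 : G)} : Set G) = ⊤ :=
          Subgroup.centralizer_eq_top_iff_subset.mpr (by simp)
        rw [this, Subgroup.card_top]
      · rw [if_neg (fun hc => hp (Subtype.ext (isConj_one_left.mp hc))), if_neg hp]
    have h2 : ∑ χ : IrrCharacter G, (m χ : ℂ) * (χ : G → ℂ) 1 =
        (Nat.card (P : Subgroup G) : ℂ)⁻¹ * ((Nat.card G : ℂ) * conj ((θ : ↥(P : Subgroup G) → ℂ) 1)) := by
      simp only [← hm, classInner, Finset.sum_mul, mul_assoc, ← Finset.mul_sum]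
      congr 1
      rw [Finset.sum_comm]
      rw [Finset.sum_congr rfl fun p _ => show _ = conj ((θ : ↥(P : Subgroup G) → ℂ) p) *
          ∑ χ : IrrCharacter G, (χ : G → ℂ) p * (χ : G → ℂ) 1 from by
        rw [Finset.mul_sum]; exact Finset.sum_congr rfl fun χ _ => by ring]
      simp only [hcol, mul_ite, mul_zero, Finset.sum_ite_eq', Finset.mem_univ, if_true]
      ring
    rw [h1, h2, hd, map_natCast, ← (P : Subgroup G).card_mul_index]
    push_cast
    field_simp
  have hodd : Odd (∑ χ, m χ * e χ) := by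
    rw [Nat.cast_injective (mul_right_cancel₀ hd0 hsum), ← Nat.not_even_iff_odd, even_iff_two_dvd]
    exact P.not_dvd_index
  exact Nat.not_even_iff_odd.mpr hodd hev

/-! ### The assembled reductions -/

/-- Real characters of odd degree: the reduction to the absence of inverted odd elements. -/
theorem normal_of_real {G : Type u} [Group G] [Finite G]
    (core : ∀ (Q : Type u) [Group Q] [Finite Q], RealOddDeg Q → NoInv Q)
    (h : RealOddDeg G) (P : Sylow 2 G) : (P : Subgroup G).Normal :=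
  sylow_normal _ G rfl (fun Q _ _ f hf => core Q (realOddDeg_image f hf h)) P

/-- Fixed characters of odd degree: the reduction to the absence of inverted odd elements. -/
theorem fixedOdd_iff {G : Type u} [Group G] [Finite G] {k : ℕ}
    (core : ∀ (Q : Type u) [Group Q] [Finite Q],
      (∀ g : Q, (∃ j : ℕ, orderOf g = 2 ^ j) → g ^ k = g) →
      (∀ g : Q, Odd (orderOf g) → g ^ k = g⁻¹) → FixedOdd Q k → NoInv Q)
    (hk₁ : ∀ g : G, (∃ j : ℕ, orderOf g = 2 ^ j) → g ^ k = g)
    (hk₂ : ∀ g : G, Odd (orderOf g) → g ^ k = g⁻¹) (P : Sylow 2 G) :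
    FixedOdd G k ↔ ((P : Subgroup G).Normal ∧ IsMulCommutative (P : Subgroup G)) := by
  constructor
  · intro h
    have hn := sylow_normal _ G rfl (fun Q _ _ f hf =>
      core Q (exponent_image hk₁ hk₂ f hf).1 (exponent_image hk₁ hk₂ f hf).2
        (fixedOdd_image f hf h)) P
    haveI := hn
    exact ⟨hn, abelian_of_fixedOdd hk₁ hk₂ h P⟩
  · rintro ⟨hn, hab⟩ χ -
    haveI := hn
    exact odd_degree_of_abelian_normal P hab χ

end CfsgLib.GaloisFixed
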