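import Cfsg.Agent.Lib.Blocks.Osima
import Cfsg.Agent.Lib.Blocks.Reynolds
import Cfsg.Agent.Lib.Char.Twist

/-!
# Characters fixed by the map inverting the odd parts and fixing the 2-parts

If all fixed characters have odd degree, then for an inverse closed normal set `K` of real elements
of odd order and a real element `y` of odd order, the number of `s ∈ K` with `y * s` a 2-element
is even.
-/

set_option autoImplicit false
set_option linter.unusedSectionVars false
set_option linter.style.haveILetI false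

namespace CfsgLib.GaloisFixed

open Cfsg
open CfsgLib.Blocks
open scoped ComplexConjugate CfsgLib.Char

variable {G : Type*} [Group G] [Fintype G] {k : ℕ}
  (hk₁ : ∀ g : G, (∃ j : ℕ, orderOf g = 2 ^ j) → g ^ k = g)
  (hk₂ : ∀ g : G, Odd (orderOf g) → g ^ k = g⁻¹)

include hk₁ hk₂ in
theorem coprime_exponent : k.Coprime (Nat.card G) := by
  refine Nat.coprime_of_dvd fun r hr hrk hrG => ?_
  haveI := Fact.mk hr
  obtain ⟨g, hg⟩ := exists_prime_orderOf_dvd_card' r hrG
  have h1 : g ^ k = 1 := orderOf_dvd_iff_pow_eq_one.mp (hg ▸ hrk)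
  rcases hr.eq_two_or_odd' with rfl | hodd
  · rw [hk₁ g ⟨1, by rw [hg, pow_one]⟩] at h1
    rw [h1, orderOf_one] at hg
    omega
  · rw [hk₂ g (hg ▸ hodd), inv_eq_one] at h1
    rw [h1, orderOf_one] at hg
    exact hr.ne_one hg.symm

include hk₁ hk₂ in
theorem pow_pow_self (g : G) : (g ^ k) ^ k = g := by
  obtain ⟨a, b, hb, hab⟩ :=
    Nat.exists_eq_two_pow_mul_odd (orderOf_pos g).ne'
  obtain ⟨h, hh⟩ : ∃ h, h = (g ^ k) ^ k * g⁻¹ := ⟨_, rfl⟩
  have hc : Commute ((g ^ k) ^ k) g⁻¹ := (((Commute.refl g).pow_left k).pow_left k).inv_right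
  have e : ∀ n : ℕ, h ^ n = ((g ^ n) ^ k) ^ k * (g ^ n)⁻¹ := fun n => by
    rw [hh, hc.mul_pow, inv_pow]
    congr 1
    simp only [← pow_mul]
    ring_nf
  have h2 : h ^ b = 1 := by
    obtain ⟨j, -, hj⟩ := (Nat.dvd_prime_pow Nat.prime_two).mp (orderOf_dvd_of_pow_eq_one
      (show (g ^ b) ^ 2 ^ a = 1 by rw [← pow_mul, mul_comm b, ← hab, pow_orderOf_eq_one]))
    rw [e, hk₁ _ ⟨j, hj⟩, hk₁ _ ⟨j, hj⟩, mul_inv_cancel]
  have h3 : h ^ 2 ^ a = 1 := by
    have hd : orderOf (g ^ 2 ^ a) ∣ b := orderOf_dvd_of_pow_eq_one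
      (by rw [← pow_mul, ← hab, pow_orderOf_eq_one])
    rw [e, hk₂ _ (hb.of_dvd_nat hd), inv_pow, hk₂ _ (hb.of_dvd_nat hd), inv_inv, mul_inv_cancel]
  have h4 := pow_gcd_eq_one.mpr ⟨h2, h3⟩
  rw [Nat.Coprime.gcd_eq_one (Nat.Coprime.pow_right a (Nat.coprime_two_right.mpr hb)), pow_one,
    hh, mul_inv_eq_one] at h4
  exact h4

/-- The twisted character. -/
noncomputable def tw (χ : IrrCharacter G) : IrrCharacter G :=
  ⟨fun g => (χ : G → ℂ) (g ^ k), Char.isIrrCharacter_pow (coprime_exponent hk₁ hk₂) χ.2⟩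

theorem tw_apply (χ : IrrCharacter G) (g : G) :
    (tw hk₁ hk₂ χ : G → ℂ) g = (χ : G → ℂ) (g ^ k) := rfl

theorem tw_tw (χ : IrrCharacter G) : tw hk₁ hk₂ (tw hk₁ hk₂ χ) = χ :=
  Subtype.ext (funext fun g => congrArg (χ : G → ℂ) (pow_pow_self hk₁ hk₂ g))

theorem eq_tw_iff (χ : IrrCharacter G) :
    tw hk₁ hk₂ χ = χ ↔ ∀ g, (χ : G → ℂ) (g ^ k) = (χ : G → ℂ) g :=
  ⟨fun h g => congrFun (congrArg Subtype.val h) g, fun h => Subtype.ext (funext h)⟩

variable {M : Ideal AlgInt} (hM : IsPModular 2 M)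

include hM in
theorem res_add_self [M.IsPrime] (a : ResField M) : a + a = 0 := by
  haveI := charP_resField hM
  exact CharTwo.add_self_eq_zero a

include hM in
/-- A sum invariant under an involution is congruent to the sum over its fixed points. -/
theorem memLocalIdeal_sum_involutive {ι : Type*} (S : Finset ι) (σ : ι → ι)
    (hσ : ∀ a, σ (σ a) = a) (hS : ∀ a ∈ S, σ a ∈ S) (f : ι → ℂ)
    (hloc : ∀ a ∈ S, MemLocalRing M (f a)) (hinv : ∀ a ∈ S, f (σ a) = f a)
    (hfix : ∀ a ∈ S, σ a = a → MemLocalIdeal M (f a)) : MemLocalIdeal M (∑ a ∈ S, f a) := by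
  classical
  haveI : M.IsPrime := isPrime_of_isPModular hM
  rw [← res_eq_zero_iff (memLocalRing_sum S f hloc), res_sum S f hloc]
  refine Finset.sum_involution (fun a _ => σ a) (fun a ha => ?_) (fun a ha hne h => hne ?_)
    hS (fun a _ => hσ a)
  · rw [hinv a ha]
    exact res_add_self hM _
  · exact res_eq_zero (hfix a ha h)

include hM hk₁ hk₂ in
/-- The principal block contains a second fixed character. -/
theorem exists_fixed_mem_principalBlock {t : G} (ht : orderOf t = 2) :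
    ∃ χ ∈ principalBlock M G, (χ : G → ℂ) ≠ (fun _ => 1) ∧
      ∀ g : G, (χ : G → ℂ) (g ^ k) = (χ : G → ℂ) g := by
  classical
  haveI : M.IsPrime := isPrime_of_isPModular hM
  have hcop := coprime_exponent hk₁ hk₂
  by_contra hcon
  push Not at hcon
  obtain ⟨S, hS⟩ : ∃ S : Finset (IrrCharacter G),
      S = ({χ | χ ∈ principalBlock M G} : Finset (IrrCharacter G)) := ⟨_, rfl⟩
  have hmem : ∀ χ, χ ∈ S ↔ χ ∈ principalBlock M G := fun χ => by simp [hS]
  have hSB : IsBlockUnion M (S : Set (IrrCharacter G)) := by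
    simpa [hS] using IsPBlock.isBlockUnion (isPBlock_principalBlock (M := M) (G := G))
  have hcent : ∀ g : G, Subgroup.centralizer ({g ^ k} : Set G) = Subgroup.centralizer ({g} : Set G) := by
    intro g
    ext c
    simp only [Subgroup.mem_centralizer_singleton_iff]
    refine ⟨fun h => ?_, fun h => ?_⟩
    · have := (Commute.pow_left (show Commute (g ^ k) c from h.symm) k)
      rw [pow_pow_self hk₁ hk₂] at this
      exact this.eq.symm
    · exact ((show Commute g c from h.symm).pow_left k).eq.symm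
  have hstable : ∀ χ ∈ S, tw hk₁ hk₂ χ ∈ S := fun χ hχ => by
    rw [hmem] at hχ ⊢
    intro g
    have h := hχ (g ^ k)
    simp only [centralChar, hcent, tw_apply, one_pow] at h ⊢
    exact h
  have htriv : trivIrr G ∈ S := (hmem _).mpr (mem_blockOf_self (trivIrr G))
  have h0 := sum_block_mul_conj_eq_zero hM hSB (x := 1) (y := t)
    (by rw [IsPRegular, orderOf_one]; norm_num) (by rw [IsPRegular, ht, not_not])
  obtain ⟨f, hf⟩ : ∃ f : IrrCharacter G → ℂ,
      f = fun χ : IrrCharacter G => (χ : G → ℂ) 1 * conj ((χ : G → ℂ) t) := ⟨_, rfl⟩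
  have hloc : ∀ χ ∈ S, MemLocalRing M (f χ) := fun χ _ => by
    rw [hf]
    exact memLocalRing_mul (memLocalRing_of_isIntegral (irr_isIntegral χ.2 1))
      (memLocalRing_of_isIntegral (irr_conj_isIntegral χ.2 t))
  have hinv : ∀ χ ∈ S, f (tw hk₁ hk₂ χ) = f χ := fun χ _ => by
    simp only [hf, tw_apply, one_pow, hk₁ t ⟨1, by rw [ht, pow_one]⟩]
  have hfixtriv : tw hk₁ hk₂ (trivIrr G) = trivIrr G := Subtype.ext rfl
  have h1 : MemLocalIdeal M (∑ χ ∈ S.erase (trivIrr G), f χ) := by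
    refine memLocalIdeal_sum_involutive hM _ (tw hk₁ hk₂) (tw_tw hk₁ hk₂) ?_ f
      (fun χ h => hloc χ (Finset.mem_of_mem_erase h)) (fun χ h => hinv χ (Finset.mem_of_mem_erase h)) ?_
    · intro χ h
      refine Finset.mem_erase.mpr ⟨fun e => ?_, hstable χ (Finset.mem_of_mem_erase h)⟩
      have := congrArg (tw hk₁ hk₂) e
      rw [tw_tw, hfixtriv] at this
      exact (Finset.mem_erase.mp h).1 this
    · intro χ h hfx
      exfalso
      obtain ⟨g, hg⟩ := hcon χ ((hmem χ).mp (Finset.mem_of_mem_erase h))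
        fun e => (Finset.mem_erase.mp h).1 (Subtype.ext e)
      exact hg ((eq_tw_iff hk₁ hk₂ χ).mp hfx g)
  have h2 := Finset.add_sum_erase S f htriv
  have h3 : ∑ χ ∈ S, f χ = 0 := by rw [hf]; exact h0
  have h4 : f (trivIrr G) = 1 := by
    have e : ∀ g : G, (trivIrr G : G → ℂ) g = 1 := fun _ => rfl
    simp [hf, e]
  rw [h3, h4] at h2
  refine not_memLocalIdeal_one (M := M) ?_
  rw [eq_neg_of_add_eq_zero_left h2]
  exact memLocalIdeal_neg h1

include hM hk₁ hk₂ in
/-- The parity of the number of products which are 2-elements. -/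
theorem even_card_mul (K : Finset G) (hconj : ∀ s ∈ K, ∀ g : G, g * s * g⁻¹ ∈ K)
    (hodd : ∀ s ∈ K, Odd (orderOf s) ∧ s ≠ 1 ∧ IsConj s s⁻¹)
    (hall : ∀ χ : IrrCharacter G, (∀ g, (χ : G → ℂ) (g ^ k) = (χ : G → ℂ) g) →
      Odd (charDegree (χ : G → ℂ)))
    {y : G} (hy : Odd (orderOf y)) (hyc : IsConj y y⁻¹) [DecidablePred fun g : G => ∃ j, orderOf g = 2 ^ j] :
    Even ({s ∈ K | ∃ j, orderOf (y * s) = 2 ^ j} : Finset G).card := by
  classical
  haveI : M.IsPrime := isPrime_of_isPModular hM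
  haveI : Fact (Nat.Prime 2) := ⟨Nat.prime_two⟩
  have hinvK : ∀ s ∈ K, s⁻¹ ∈ K := fun s hs => by
    obtain ⟨c, hc⟩ := isConj_iff.mp (hodd s hs).2.2
    exact hc ▸ hconj s hs c
  obtain ⟨z, hz⟩ : ∃ z : G → ℂ, z = fun g => if g ∈ K then 1 else 0 := ⟨_, rfl⟩
  have hzc : IsClassFunction G z := fun a b => by
    subst hz
    exact if_congr ⟨fun h => by simpa [mul_assoc] using hconj _ h b⁻¹, fun h => hconj _ h b⟩ rfl rfl
  obtain ⟨P⟩ : Nonempty (Sylow 2 G) := inferInstance
  obtain ⟨H, hH⟩ : ∃ H : Subgroup G, H = (P : Subgroup G) := ⟨_, rfl⟩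
  have hm : ∀ χ : IrrCharacter G, ∃ n : ℕ,
      (Nat.card H : ℂ)⁻¹ * ∑ v : H, (χ : G → ℂ) v = n := fun χ => by
    obtain ⟨n, hn⟩ := Char.exists_nat_classInner
      (Char.isCharacter_restrict H (Char.isCharacter_of_isIrr χ.2)) Char.isCharacter_one
    exact ⟨n, by rw [← hn]; simp [classInner]⟩
  choose m hm using hm
  have hmtw : ∀ χ, m (tw hk₁ hk₂ χ) = m χ := fun χ => by
    have : (m (tw hk₁ hk₂ χ) : ℂ) = m χ := by
      rw [← hm, ← hm]
      congr 1
      refine Finset.sum_congr rfl fun v _ => ?_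
      obtain ⟨j, hj⟩ := IsPGroup.iff_orderOf.mp P.2 ⟨v, hH ▸ v.2⟩
      rw [Subgroup.orderOf_mk] at hj
      rw [tw_apply, hk₁ _ ⟨j, hj⟩]
    exact_mod_cast this
  have hom : ∀ χ : IrrCharacter G,
      omega (χ : G → ℂ) z = (∑ s ∈ K, (χ : G → ℂ) s) / (χ : G → ℂ) 1 := fun χ => by
    simp [omega, hz, ite_mul]
  have homtw : ∀ χ, omega (tw hk₁ hk₂ χ : G → ℂ) z = omega (χ : G → ℂ) z := fun χ => by
    rw [hom, hom]
    congr 1
    · refine Finset.sum_congr rfl fun s hs => ?_
      rw [tw_apply, hk₂ s (hodd s hs).1]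
      exact (CfsgLib.Blocks.IsClassFunction.eq_of_isConj (irr_classFunction χ) (hodd s hs).2.2).symm
    · rw [tw_apply, one_pow]
  have hval : ∀ χ : IrrCharacter G, conj ((χ : G → ℂ) y) = (χ : G → ℂ) y := fun χ => by
    rw [← irr_value_inv χ.2]
    exact (CfsgLib.Blocks.IsClassFunction.eq_of_isConj (irr_classFunction χ) hyc).symm
  have hfixed : ∀ χ : IrrCharacter G, tw hk₁ hk₂ χ = χ → MemLocalIdeal M (omega (χ : G → ℂ) z) := by
    intro χ hχ
    have h2 : ¬ 2 ∣ charDegree (χ : G → ℂ) :=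
      fun h => Nat.not_even_iff_odd.mpr (hall χ ((eq_tw_iff hk₁ hk₂ χ).mp hχ)) (even_iff_two_dvd.mpr h)
    rw [hom, (irr_degree_eq χ).1, div_eq_mul_inv]
    refine memLocalIdeal_mul_right ?_ (memLocalRing_natCast_inv hM h2)
    refine memLocalIdeal_sum_involutive hM K (·⁻¹) inv_inv hinvK _
      (fun s _ => memLocalRing_of_isIntegral (irr_isIntegral χ.2 s))
      (fun s hs => (CfsgLib.Blocks.IsClassFunction.eq_of_isConj (irr_classFunction χ) (hodd s hs).2.2).symm) ?_
    intro s hs h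
    exfalso
    obtain ⟨ho, h1, -⟩ := hodd s hs
    have hd : orderOf s ∣ 2 := orderOf_dvd_of_pow_eq_one (by
      rw [sq]; nth_rewrite 1 [← h]; exact inv_mul_cancel s)
    rcases (Nat.dvd_prime Nat.prime_two).mp hd with e | e
    · exact h1 (orderOf_eq_one_iff.mp e)
    · rw [e] at ho; exact absurd ho (by decide)
  have hπ := isClassFunction_cosetChar H
  have hconv : MemLocalIdeal M (conv (cosetChar H) z y) := by
    have h1 : conv (cosetChar H) z = ofOmega ((fun χ : IrrCharacter G =>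
        omega (χ : G → ℂ) (cosetChar H)) * fun χ : IrrCharacter G => omega (χ : G → ℂ) z) := by
      rw [ofOmega_mul, ofOmega_omega hπ, ofOmega_omega hzc]
    have hterm : ∀ χ : IrrCharacter G, (Nat.card G : ℂ)⁻¹ *
        (omega (χ : G → ℂ) (cosetChar H) * omega (χ : G → ℂ) z * (χ : G → ℂ) 1 *
          conj ((χ : G → ℂ) y)) = omega (χ : G → ℂ) z * ((m χ : ℂ) * (χ : G → ℂ) y) := by
      intro χ
      have hd := Char.irr_degree_ne_zero χ.2
      have hcard : (Nat.card G : ℂ) = Nat.card H * H.index := by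
        rw [← H.card_mul_index, Nat.cast_mul]
      have hH0 : (Nat.card H : ℂ) ≠ 0 := Nat.cast_ne_zero.mpr Nat.card_pos.ne'
      have hi0 : (H.index : ℂ) ≠ 0 := Nat.cast_ne_zero.mpr H.index_ne_zero_of_finite
      rw [omega, sum_cosetChar_mul H (irr_classFunction χ), ← hm χ, hcard, hval]
      field_simp
    rw [h1, ofOmega, Finset.mul_sum]
    refine memLocalIdeal_sum_involutive hM _ (tw hk₁ hk₂) (tw_tw hk₁ hk₂)
      (fun _ _ => Finset.mem_univ _) _ (fun χ _ => ?_) (fun χ _ => ?_) fun χ _ hχ => ?_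
    · rw [Pi.mul_apply, hterm]
      refine memLocalRing_mul (memLocalRing_omega χ hzc fun g => ?_) (memLocalRing_mul
        (memLocalRing_natCast _) (memLocalRing_of_isIntegral (irr_isIntegral χ.2 y)))
      subst hz
      show MemLocalRing M (if g ∈ K then (1 : ℂ) else 0)
      split_ifs
      exacts [memLocalRing_one, memLocalRing_zero]
    · rw [Pi.mul_apply, Pi.mul_apply, hterm, hterm, homtw, hmtw, tw_apply, hk₂ y hy]
      rw [← CfsgLib.Blocks.IsClassFunction.eq_of_isConj (irr_classFunction χ) hyc]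
    · rw [Pi.mul_apply, hterm]
      exact memLocalIdeal_mul_right (hfixed χ hχ) (memLocalRing_mul (memLocalRing_natCast _)
        (memLocalRing_of_isIntegral (irr_isIntegral χ.2 y)))
  have hdiff : MemLocalIdeal M
      ((H.index : ℂ) * conv (pInd 2) z y - conv (cosetChar H) z y) := by
    simp only [conv, Finset.mul_sum, ← Finset.sum_sub_distrib]
    refine memLocalIdeal_sum _ _ fun x _ => ?_
    rw [← mul_assoc, ← sub_mul]
    refine memLocalIdeal_mul_right (memLocalIdeal_sub_comm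
      (hH ▸ memLocalIdeal_cosetChar_sub hM P x)) ?_
    subst hz
    show MemLocalRing M (if x⁻¹ * y ∈ K then (1 : ℂ) else 0)
    split_ifs
    exacts [memLocalRing_one, memLocalRing_zero]
  have h2 := memLocalIdeal_add hdiff hconv
  rw [sub_add_cancel] at h2
  have hcount : conv (pInd 2) z y =
      (({s ∈ K | ∃ j, orderOf (y * s) = 2 ^ j} : Finset G).card : ℂ) := by
    rw [Finset.natCast_card_filter, conv]
    have hinj : Function.Bijective fun s : G => y * s := (Equiv.mulLeft y).bijective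
    rw [← Fintype.sum_bijective _ hinj (fun s => pInd 2 (y * s) * z ((y * s)⁻¹ * y)) _
      (fun _ => rfl), ← Finset.sum_subset (Finset.subset_univ K)]
    · refine Finset.sum_congr rfl fun s hs => ?_
      rw [hz]
      have : (y * s)⁻¹ * y = s⁻¹ := by group
      simp only [this, if_pos (hinvK s hs), mul_one, pInd]
      split_ifs <;> rfl
    · intro s _ hs
      rw [hz]
      have : (y * s)⁻¹ * y = s⁻¹ := by group
      simp only [this]
      rw [if_neg fun h => hs (inv_inv s ▸ hinvK _ h), mul_zero]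
  rw [hcount, ← Nat.cast_mul] at h2
  have h3 := (memLocalIdeal_natCast_iff hM).mp h2
  rcases (Nat.prime_two.dvd_mul).mp h3 with h | h
  · exact absurd h (hH ▸ P.not_dvd_index)
  · exact even_iff_two_dvd.mpr h

end CfsgLib.GaloisFixed
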